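import Mathlib
import Cfsg.Prelude.Def_Classical
import Cfsg.Prelude.Def_GeometricClasses
import Cfsg.Agent.Lib.Helper9.OPH.Defs

set_option autoImplicit false
set_option linter.unusedVariables false
set_option linter.unusedSectionVars false

/-!
# Project OMO = statements S5994 + S5995 (designer helper1): Jordan types of unipotent elements of
`Ω⁻_{2d}(q)` and `Ω_{2d+1}(q)`, `q` odd.  Extends helper9's project OPH (S5996): `dk`, `ek` are those of
`Cfsg.Agent.Lib.helper14.JTa`, `ty` and `Real` those of `Cfsg.Agent.Lib.Helper9.OPH`.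
-/

namespace Cfsg.Agent.Lib.Helper1.OMO

open Module Cfsg.Agent.Lib.helper14.JTa Cfsg.Agent.Lib.Helper9.OPH

/-- `RealQ Q μ` : some matrix `T`, skew-adjoint for the polar form of the function `Q : F^ι → F`, has `dim ker T^k = ty μ k` for all `k`
(`T` is nilpotent of Jordan type `μ`).  `Cfsg.Agent.Lib.Helper9.OPH.Real F s μ` is `RealQ (Cfsg.quadFormPlus s F) μ` (by `Iff.rfl`). -/
def RealQ {ι : Type} [Fintype ι] [DecidableEq ι] {F : Type*} [Field F] (Q : (ι → F) → F) (μ : Multiset ℕ) : Prop :=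
  ∃ T : Matrix ι ι F,
    (∀ u v : ι → F, QuadraticMap.polar Q (T.mulVec u) v = - QuadraticMap.polar Q u (T.mulVec v)) ∧
    ∀ k, dk (Matrix.toLin' T) k = ty μ k

/-- the form `c x₀² + Σ_{i<k} x_i y_i` in dimension `2k+1` (`qOddC k 1 = Cfsg.quadFormOdd k F` up to `one_mul`) -/
def qOddC (k : ℕ) {F : Type*} [Field F] (c : F) (v : Unit ⊕ (Fin k ⊕ Fin k) → F) : F :=
  c * v (.inl ()) ^ 2 + ∑ i : Fin k, v (.inr (.inl i)) * v (.inr (.inr i))

/-- the orthogonal sum of two functions `Q₁ : F^ι₁ → F`, `Q₂ : F^ι₂ → F`, on `F^(ι₁ ⊕ ι₂)` -/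
def qSum {ι₁ ι₂ : Type} {F : Type*} [Field F] (Q₁ : (ι₁ → F) → F) (Q₂ : (ι₂ → F) → F) (v : ι₁ ⊕ ι₂ → F) : F :=
  Q₁ (fun i => v (.inl i)) + Q₂ (fun i => v (.inr i))

theorem real_iff_realQ (F : Type*) [Field F] (s : ℕ) (μ : Multiset ℕ) :
    Real F s μ ↔ RealQ (Cfsg.quadFormPlus s F) μ := Iff.rfl

end Cfsg.Agent.Lib.Helper1.OMO
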